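import Cfsg.Agent.Lib.HeUniq.Model.Chk2
import Mathlib.LinearAlgebra.Matrix.SpecialLinearGroup
import Mathlib.LinearAlgebra.Matrix.Transvection
import Mathlib.LinearAlgebra.Matrix.ToLinearEquiv
import Mathlib.GroupTheory.OrderOfElement

/-! Groups with an involution whose centraliser is the centraliser of a transvection, read on bit codes. -/

set_option autoImplicit false
set_option maxRecDepth 20000

namespace Cfsg.Agent.HeUniq.Model

open Cfsg.Agent.HeUniq.Bit

/-- the transvection -/
abbrev sMat : Matrix (Fin 5) (Fin 5) (ZMod 2) := Matrix.transvection 0 4 1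

theorem toMat_zC : toMat 5 zC = sMat := by decide +kernel

theorem sc_ite (p : Prop) [Decidable p] (x : Bool) : (if p then sc x else 0) = sc (decide p && x) := by
  by_cases h : p <;> simp [h, sc]

theorem blockRow_lt (M u p c : ℕ) (hp : p < 8) (hc : c < 2) : ∀ i, blockRow M u p c i < 2 ^ 5
  | 0 => by simp only [blockRow]; omega
  | 1 => by simp only [blockRow]; omega
  | 2 => by simp only [blockRow]; omega
  | 3 => by simp only [blockRow]; omega
  | _ + 4 => by simp only [blockRow]; omega

theorem mkC_pack (M u p c : ℕ) (hp : p < 8) (hc : c < 2) :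
    mkC M u p c = packUpto 5 (blockRow M u p c) 5 := by
  have hf := blockRow_lt M u p c hp hc
  have h : ∀ m, packUpto 5 (blockRow M u p c) (m + 1) =
      packUpto 5 (blockRow M u p c) m + 2 ^ (5 * m) * blockRow M u p c m := fun m => by
    rw [packUpto_succ, Nat.lor_comm, ← Nat.shiftLeft_add_eq_or_of_lt (packUpto_lt hf m), Nat.shiftLeft_eq]
    ring
  rw [h, h, h, h, h, show packUpto 5 (blockRow M u p c) 0 = 0 from rfl, mkC]
  norm_num

theorem exists_cd {A : Matrix (Fin 5) (Fin 5) (ZMod 2)} (hdet : A.det ≠ 0) (hc : A * sMat = sMat * A) :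
    ∃ i < 21504, toMat 5 (cd i) = A := by
  classical
  have hE : ∀ i j, (if j = 4 then A i 0 else 0) = (if i = 0 then A 4 j else 0) := by
    intro i j
    have h := congrFun (congrFun hc i) j
    simp only [sMat, Matrix.transvection, Matrix.mul_add, Matrix.add_mul, Matrix.mul_one, Matrix.one_mul,
      Matrix.add_apply, add_right_inj] at h
    by_cases hj : j = 4
    · subst hj
      by_cases hi : i = 0
      · subst hi; simpa using h
      · simpa [hi] using h
    · by_cases hi : i = 0
      · subst hi; simpa [hj] using h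
      · simp [hi, hj]
  have hcol : ∀ i, i ≠ 0 → A i 0 = 0 := fun i hi => by simpa [hi] using hE i 4
  have hrow : ∀ j, j ≠ 4 → A 4 j = 0 := fun j hj => by simpa [hj] using (hE 0 j).symm
  have hd : A 0 0 = A 4 4 := by simpa using hE 0 4
  have h00 : A 0 0 ≠ 0 := fun h => hdet (Matrix.det_eq_zero_of_column_eq_zero 0 fun i => by
    rcases eq_or_ne i 0 with rfl | hi
    exacts [h, hcol i hi])
  choose b hb using fun i j => exists_sc (A i j)
  have b0 : ∀ {i j}, A i j = 0 → b i j = false := fun {i j} h => sc_inj (by rw [hb, h]; rfl)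
  have b1 : ∀ {i j}, A i j ≠ 0 → b i j = true := fun {i j} h => by
    cases hh : b i j
    · exact absurd (by rw [← hb, hh]; rfl) h
    · rfl
  set M := Nat.ofBits (fun k : Fin 9 => b ⟨k / 3 + 1, by omega⟩ ⟨k % 3 + 1, by omega⟩) with hM
  set u := Nat.ofBits (fun k : Fin 3 => b ⟨k + 1, by omega⟩ 4) with hu
  set p := Nat.ofBits (fun k : Fin 3 => b 0 ⟨k + 1, by omega⟩) with hp
  set c := (b 0 4).toNat with hcc
  have hMlt : M < 512 := Nat.ofBits_lt_two_pow _
  have hult : u < 8 := Nat.ofBits_lt_two_pow _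
  have hplt : p < 8 := Nat.ofBits_lt_two_pow _
  have hclt : c < 2 := Bool.toNat_lt _
  have hA : toMat 5 (mkC M u p c) = A := by
    ext i j
    show sc ((mkC M u p c).testBit (5 * i + j)) = _
    rw [mkC_pack M u p c hplt hclt, testBit_pack (blockRow_lt M u p c hplt hclt) 5 i j i.2 j.2, ← hb i j]
    refine congrArg sc ?_
    have key : ∀ x < 8, ∀ y < 2, ∀ j : Fin 5, (2 * x + 16 * y).testBit j =
        (if j = 0 then false else if j = 4 then decide (y = 1) else x.testBit (j - 1)) := by decide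
    have key0 : ∀ x < 8, ∀ y < 2, ∀ j : Fin 5, (1 + 2 * x + 16 * y).testBit j =
        (if j = 0 then true else if j = 4 then decide (y = 1) else x.testBit (j - 1)) := by decide
    have key4 : ∀ j : Fin 5, (16 : ℕ).testBit j = decide (j = 4) := by decide
    have hMbit : ∀ (r s : ℕ) (hr : r < 3) (hs : s < 3),
        M.testBit (3 * r + s) = b ⟨r + 1, by omega⟩ ⟨s + 1, by omega⟩ := fun r s hr hs => by
      rw [hM, Nat.testBit_ofBits_lt _ _ (show 3 * r + s < 9 by omega)]
      congr 1 <;> ext <;> simp <;> omega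
    have hubit : ∀ (r : ℕ) (hr : r < 3), decide (u / 2 ^ r % 2 = 1) = b ⟨r + 1, by omega⟩ 4 := fun r hr => by
      rw [← Nat.testBit_eq_decide_div_mod_eq, hu, Nat.testBit_ofBits_lt _ _ hr]
    have hpbit : ∀ (s : ℕ) (hs : s < 3), p.testBit s = b 0 ⟨s + 1, by omega⟩ := fun s hs => by
      rw [hp, Nat.testBit_ofBits_lt _ _ hs]
    have hMrow : ∀ (r s : ℕ) (hr : r < 3) (hs : s < 3),
        (M / 8 ^ r % 8).testBit s = b ⟨r + 1, by omega⟩ ⟨s + 1, by omega⟩ := fun r s hr hs => by
      rw [← hMbit r s hr hs, show (8 : ℕ) = 2 ^ 3 from rfl, ← pow_mul, Nat.testBit_mod_two_pow,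
        Nat.testBit_div_two_pow, decide_eq_true hs, Bool.true_and, Nat.add_comm]
    fin_cases i
    · show (1 + 2 * p + 16 * c).testBit j = b 0 j
      rw [key0 p hplt c hclt j]
      fin_cases j
      · exact (b1 h00).symm
      · exact hpbit 0 (by norm_num)
      · exact hpbit 1 (by norm_num)
      · exact hpbit 2 (by norm_num)
      · show decide (c = 1) = b 0 4
        rw [hcc]; cases b 0 4 <;> rfl
    · show (2 * (M % 8) + 16 * (u % 2)).testBit j = b 1 j
      rw [key _ (Nat.mod_lt _ (by norm_num)) _ (Nat.mod_lt _ (by norm_num)) j]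
      fin_cases j
      · exact (b0 (hcol 1 (by decide))).symm
      · simpa using hMrow 0 0 (by norm_num) (by norm_num)
      · simpa using hMrow 0 1 (by norm_num) (by norm_num)
      · simpa using hMrow 0 2 (by norm_num) (by norm_num)
      · simpa using hubit 0 (by norm_num)
    · show (2 * (M / 8 % 8) + 16 * (u / 2 % 2)).testBit j = b 2 j
      rw [key _ (Nat.mod_lt _ (by norm_num)) _ (Nat.mod_lt _ (by norm_num)) j]
      fin_cases j
      · exact (b0 (hcol 2 (by decide))).symm
      · simpa using hMrow 1 0 (by norm_num) (by norm_num)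
      · simpa using hMrow 1 1 (by norm_num) (by norm_num)
      · simpa using hMrow 1 2 (by norm_num) (by norm_num)
      · simpa using hubit 1 (by norm_num)
    · show (2 * (M / 64 % 8) + 16 * (u / 4 % 2)).testBit j = b 3 j
      rw [key _ (Nat.mod_lt _ (by norm_num)) _ (Nat.mod_lt _ (by norm_num)) j]
      fin_cases j
      · exact (b0 (hcol 3 (by decide))).symm
      · simpa using hMrow 2 0 (by norm_num) (by norm_num)
      · simpa using hMrow 2 1 (by norm_num) (by norm_num)
      · simpa using hMrow 2 2 (by norm_num) (by norm_num)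
      · simpa using hubit 2 (by norm_num)
    · show (16 : ℕ).testBit j = b 4 j
      rw [key4 j]
      rcases eq_or_ne j 4 with rfl | hj
      · exact (b1 (hd ▸ h00)).symm
      · rw [b0 (hrow j hj), decide_eq_false hj]
  have hok := allB_spec blocks_ok M hMlt
  rw [blockOK, Bool.or_eq_true] at hok
  rcases hok with hf | hs
  · simp only [matFound, List.any_eq_true, List.mem_range, Nat.beq_eq] at hf
    obtain ⟨l, hl, hlM⟩ := hf
    refine ⟨128 * l + (64 * c + 8 * p + u), by omega, ?_⟩
    rw [← hA, cd]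
    congr 2
    · rw [show (128 * l + (64 * c + 8 * p + u)) / 128 = l by omega, hlM]
    all_goals omega
  · exfalso
    have := allB_spec hs (64 * c + 8 * p + u) (by omega)
    rw [show (64 * c + 8 * p + u) % 8 = u by omega, show (64 * c + 8 * p + u) / 8 % 8 = p by omega,
      show (64 * c + 8 * p + u) / 64 % 2 = c by omega, List.any_eq_true] at this
    obtain ⟨k, hk, hz⟩ := this
    rw [Nat.beq_eq] at hz
    have hk32 : k < 32 ∧ k ≠ 0 := by
      simp only [List.mem_cons, List.not_mem_nil, or_false] at hk; omega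
    apply hdet
    rw [← Matrix.exists_vecMul_eq_zero_iff]
    refine ⟨fun i : Fin 5 => sc (k.testBit i), fun h0 => hk32.2 ?_, ?_⟩
    · refine Nat.eq_of_testBit_eq fun i => ?_
      rw [Nat.zero_testBit]
      by_cases hi : i < 5
      · exact sc_inj ((congrFun h0 ⟨i, hi⟩).trans rfl)
      · exact Nat.testBit_lt_two_pow (hk32.1.trans_le (Nat.pow_le_pow_right two_pos (not_lt.1 hi)))
    · ext j
      have h5 := vm5_eq k (mkC M u p c) 0
      rw [Nat.mul_zero, Nat.shiftRight_zero, hz] at h5
      have h6 := vmulUpto_bit (a := row 5 k 0) (B := mkC M u p c) j.2 5 le_rfl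
      rw [← h5, Nat.zero_testBit] at h6
      show ∑ i : Fin 5, sc (k.testBit i) * A i j = 0
      rw [← hA]
      refine Eq.trans (Finset.sum_congr rfl fun i _ => ?_) h6.symm
      rw [testBit_row i.2, Nat.mul_zero, Nat.zero_add]
      rfl

/-- membership of the centraliser codes -/
def InC (a : ℕ) : Prop := ∃ i < 21504, cd i = a

theorem InC.ok {a : ℕ} (h : InC a) : a < 2 ^ 25 ∧ mC a (invC a) = oneC ∧ mC a zC = mC zC a ∧
    mC (theta a) zC = mC zC (theta a) ∧ mC (theta a) (invC (theta a)) = oneC ∧ theta (theta a) = a := by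
  obtain ⟨i, hi, rfl⟩ := h
  have := elem_ok hi
  simp only [elemOK, Bool.and_eq_true, Nat.blt_eq, Nat.beq_eq] at this
  obtain ⟨⟨⟨⟨⟨h1, h2⟩, h3⟩, h4⟩, h5⟩, h6⟩ := this
  exact ⟨h1, h2, h3, h4, h5, h6⟩

theorem inC_cd {i : ℕ} (hi : i < 21504) : InC (cd i) := ⟨i, hi, rfl⟩

theorem InC.det {a : ℕ} (h : InC a) : (toMat 5 a).det ≠ 0 := by
  have h2 := congrArg (toMat 5) h.ok.2.1
  rw [mC_eq, toMat_bmul, one_eq, toMat_bone] at h2
  intro h0
  have := congrArg Matrix.det h2
  rw [Matrix.det_mul, Matrix.det_one, h0, zero_mul] at this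
  exact zero_ne_one this

theorem InC.comm {a : ℕ} (h : InC a) : toMat 5 a * sMat = sMat * toMat 5 a := by
  have h3 := congrArg (toMat 5) h.ok.2.2.1
  rwa [mC_eq, mC_eq, toMat_bmul, toMat_bmul, toMat_zC] at h3

theorem inC_of_toMat {a : ℕ} (ha : a < 2 ^ 25) (hdet : (toMat 5 a).det ≠ 0)
    (hc : toMat 5 a * sMat = sMat * toMat 5 a) : InC a := by
  obtain ⟨i, hi, he⟩ := exists_cd hdet hc
  exact ⟨i, hi, toMat_inj (inC_cd hi).ok.1 ha he⟩

theorem InC.mul {a b : ℕ} (ha : InC a) (hb : InC b) : InC (mC a b) := by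
  refine inC_of_toMat (by rw [mC_eq]; exact bmul_lt 5 a b) ?_ ?_
  · rw [mC_eq, toMat_bmul, Matrix.det_mul]; exact mul_ne_zero ha.det hb.det
  · rw [mC_eq, toMat_bmul, Matrix.mul_assoc, hb.comm, ← Matrix.mul_assoc, ha.comm, Matrix.mul_assoc]

theorem InC.theta {a : ℕ} (ha : InC a) : InC (theta a) := by
  obtain ⟨h1, h2, h3, h4, h5, h6⟩ := ha.ok
  refine inC_of_toMat (by show rev5 (invC a) < _; rw [rev5_eq]; exact rev_lt 5 _) ?_ ?_
  · intro h0
    have h := congrArg Matrix.det (congrArg (toMat 5) h5)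
    rw [mC_eq, toMat_bmul, Matrix.det_mul, h0, zero_mul, one_eq, toMat_bone, Matrix.det_one] at h
    exact zero_ne_one h
  · have h := congrArg (toMat 5) h4
    rwa [mC_eq, mC_eq, toMat_bmul, toMat_bmul, toMat_zC] at h

theorem inC_one : InC oneC := ⟨9728, by norm_num, cd_one⟩

theorem inC_z : InC zC := ⟨9792, by norm_num, cd_z⟩

theorem theta_mul {a b : ℕ} (ha : InC a) (hb : InC b) :
    Model.theta (mC a b) = mC (Model.theta a) (Model.theta b) := by
  have key : ∀ {x : ℕ}, InC x → (toMat 5 x)⁻¹ = toMat 5 (invC x) := fun {x} hx => by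
    refine Matrix.inv_eq_right_inv ?_
    have h2 := congrArg (toMat 5) hx.ok.2.1
    rwa [mC_eq, toMat_bmul, one_eq, toMat_bone] at h2
  have hinv : toMat 5 (invC (mC a b)) = toMat 5 (mC (invC b) (invC a)) := by
    rw [← key (ha.mul hb), mC_eq, mC_eq, toMat_bmul, toMat_bmul, Matrix.mul_inv_rev, key ha, key hb]
  refine toMat_inj (by show rev5 _ < _; rw [rev5_eq]; exact rev_lt 5 _) (by rw [mC_eq]; exact bmul_lt 5 _ _) ?_
  show toMat 5 (rev5 (invC (mC a b))) = _
  rw [rev5_eq, toMat_rev, hinv, ← toMat_rev, mC_eq, rev_bmul, mC_eq]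
  show _ = toMat 5 (bmul 5 (rev5 (invC a)) (rev5 (invC b)))
  rw [rev5_eq, rev5_eq]

theorem theta_inj {a b : ℕ} (ha : InC a) (hb : InC b) (h : Model.theta a = Model.theta b) : a = b := by
  rw [← ha.ok.2.2.2.2.2, ← hb.ok.2.2.2.2.2, h]

theorem theta_z : Model.theta zC = zC := by decide +kernel

/-- A group with a chosen involution and its centraliser read on codes. -/
structure Frame (G : Type*) [Group G] (t : G) where
  /-- the element of a code -/
  f : ℕ → G
  mul : ∀ {a b : ℕ}, InC a → InC b → f (mC a b) = f a * f b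
  inj : ∀ {a b : ℕ}, InC a → InC b → f a = f b → a = b
  cent : ∀ {a : ℕ}, InC a → f a * t = t * f a
  surj : ∀ g : G, g * t = t * g → ∃ a, InC a ∧ f a = g
  fz : f zC = t

namespace Frame

variable {G : Type*} [Group G] {t : G} (F : Frame G t)

theorem one : F.f oneC = 1 := by
  have h : mC oneC oneC = oneC := by decide +kernel
  have := F.mul inC_one inC_one
  rw [h] at this
  exact mul_eq_left.1 this.symm

/-- the frame twisted by the outer automorphism -/
def twist : Frame G t where
  f a := F.f (Model.theta a)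
  mul ha hb := by rw [theta_mul ha hb, F.mul ha.theta hb.theta]
  inj ha hb h := theta_inj ha hb (F.inj ha.theta hb.theta h)
  cent ha := F.cent ha.theta
  surj g hg := by
    obtain ⟨a, ha, rfl⟩ := F.surj g hg
    exact ⟨Model.theta a, ha.theta, congrArg F.f ha.ok.2.2.2.2.2⟩
  fz := by rw [theta_z, F.fz]

end Frame

open scoped MatrixGroups in
theorem exists_frame {G : Type*} [Group G] (t : G) (ht : orderOf t = 2)
    (s : Matrix.SpecialLinearGroup (Fin 5) (ZMod 2))
    (hs : (s : Matrix (Fin 5) (Fin 5) (ZMod 2)) = sMat)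
    (e : Subgroup.centralizer ({t} : Set G) ≃* Subgroup.centralizer ({s} : Set (Matrix.SpecialLinearGroup (Fin 5) (ZMod 2)))) :
    Nonempty (Frame G t) := by
  classical
  set C5 := Subgroup.centralizer ({s} : Set (Matrix.SpecialLinearGroup (Fin 5) (ZMod 2))) with hC5
  let mv : C5 → Matrix (Fin 5) (Fin 5) (ZMod 2) := fun x => ((x : Matrix.SpecialLinearGroup (Fin 5) (ZMod 2)) :
    Matrix (Fin 5) (Fin 5) (ZMod 2))
  have mv_inj : Function.Injective mv := fun x y h => Subtype.ext (Subtype.ext h)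
  have mv_mul : ∀ x y, mv (x * y) = mv x * mv y := fun x y => rfl
  have mem : ∀ {a : ℕ}, InC a → ∃ x : C5, mv x = toMat 5 a := by
    intro a ha
    have h1 : ∀ d : ZMod 2, d ≠ 0 → d = 1 := by decide
    refine ⟨⟨⟨toMat 5 a, h1 _ ha.det⟩, Subgroup.mem_centralizer_iff.2 ?_⟩, rfl⟩
    intro y hy
    rw [Set.mem_singleton_iff.1 hy]
    refine Subtype.ext ?_
    show (s : Matrix (Fin 5) (Fin 5) (ZMod 2)) * toMat 5 a = toMat 5 a * (s : Matrix (Fin 5) (Fin 5) (ZMod 2))
    rw [hs]; exact ha.comm.symm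
  have code : ∀ x : C5, ∃ a, InC a ∧ mv x = toMat 5 a := by
    intro x
    have hd : (mv x).det ≠ 0 := by
      rw [(x : Matrix.SpecialLinearGroup (Fin 5) (ZMod 2)).2]; exact one_ne_zero
    have hx := congrArg Subtype.val (Subgroup.mem_centralizer_iff.1 x.2 s rfl)
    obtain ⟨i, hi, he⟩ := exists_cd hd (by rw [← hs]; exact hx.symm)
    exact ⟨cd i, inC_cd hi, he.symm⟩
  let f : ℕ → G := fun a => if h : ∃ x : C5, mv x = toMat 5 a then (e.symm h.choose : G) else 1
  have fv : ∀ {a : ℕ} (ha : InC a) (x : C5), mv x = toMat 5 a → f a = e.symm x := by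
    intro a ha x hx
    show (if h : ∃ x : C5, mv x = toMat 5 a then (e.symm h.choose : G) else 1) = _
    rw [dif_pos (mem ha), mv_inj ((mem ha).choose_spec.trans hx.symm)]
  have hmul : ∀ {a b : ℕ}, InC a → InC b → f (mC a b) = f a * f b := by
    intro a b ha hb
    obtain ⟨x, hx⟩ := mem ha
    obtain ⟨y, hy⟩ := mem hb
    rw [fv ha x hx, fv hb y hy, fv (ha.mul hb) (x * y) (by rw [mv_mul, hx, hy, mC_eq, toMat_bmul]), map_mul]
    rfl
  have hinj : ∀ {a b : ℕ}, InC a → InC b → f a = f b → a = b := by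
    intro a b ha hb h
    obtain ⟨x, hx⟩ := mem ha
    obtain ⟨y, hy⟩ := mem hb
    rw [fv ha x hx, fv hb y hy] at h
    obtain rfl := e.symm.injective (Subtype.ext h)
    exact toMat_inj ha.ok.1 hb.ok.1 (hx.symm.trans hy)
  have hsurj : ∀ g : G, g * t = t * g → ∃ a, InC a ∧ f a = g := by
    intro g hg
    obtain ⟨a, ha, he⟩ := code (e ⟨g, Subgroup.mem_centralizer_iff.2 fun y hy => by
      rw [Set.mem_singleton_iff.1 hy]; exact hg.symm⟩)
    exact ⟨a, ha, by rw [fv ha _ he, e.symm_apply_apply]⟩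
  refine ⟨{ f := f, mul := hmul, inj := hinj, surj := hsurj, cent := ?_, fz := ?_ }⟩
  · intro a ha
    obtain ⟨x, hx⟩ := mem ha
    rw [fv ha x hx]
    exact (Subgroup.mem_centralizer_iff.1 (e.symm x).2 t rfl).symm
  · obtain ⟨a, ha, hta⟩ := hsurj t rfl
    have hcomm : ∀ {b : ℕ}, InC b → mC a b = mC b a := by
      intro b hb
      refine hinj (ha.mul hb) (hb.mul ha) ?_
      obtain ⟨y, hy⟩ := mem hb
      rw [hmul ha hb, hmul hb ha, hta, fv hb y hy]
      exact Subgroup.mem_centralizer_iff.1 (e.symm y).2 t rfl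
    obtain ⟨i, hi, rfl⟩ := ha
    have hcent : centOK i = true := by
      rcases Nat.lt_or_ge i 10752 with h | h
      · exact allB_spec cent0_ok i h
      · exact allB_chunk cent1_ok h (by omega)
    simp only [centOK, hcomm (inC_cd (show 9856 < 21504 by norm_num)),
      hcomm (inC_cd (show 1024 < 21504 by norm_num)), Bool.or_eq_true, Bool.not_eq_true', Bool.and_eq_false_iff,
      Nat.beq_eq, Nat.beq_refl] at hcent
    rcases hcent with (h | h) | h
    · simp at h
    · exfalso
      obtain ⟨x, hx⟩ := mem inC_one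
      rw [h, fv inC_one x hx] at hta
      have h1 : x = 1 := mv_inj (hx.trans (by rw [one_eq, toMat_bone]; rfl))
      subst h1
      rw [map_one, Subgroup.coe_one] at hta
      rw [← hta, orderOf_one] at ht
      norm_num at ht
    · rw [h] at hta
      exact hta

end Cfsg.Agent.HeUniq.Model
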