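/-! The invertible three by three matrices over two elements and their inverses, packed. -/

set_option autoImplicit false

namespace Cfsg.Agent.HeUniq.Model

/-- the invertible matrices, nine bits each -/
def matList : Nat := 0xfafd3e7f2f77b3d7e9f3797c5e1ef777b5d9eb753a7d1e6f3397cadeef377bad7eb355a9d3e9747a1cfe733599cbe572791c6e33178abf5f2f779bbdd2e571b3d9ac762afd72b559ab552a751a7d3a974a9f4f675399bcd6673197cba572a8f47635198bc56271187c3a170a7f3f5f4f97bbd1e4f177bb1d4e973395c4e16bb59aad467b399acc5f2f176b95bad566b1572b156a953a9546a14fa793a9c47a391a8c3e9f0f67a3a9d0e672379b8d66a33998c6622f978ba5c2b958aa54

/-- the inverses, nine bits each -/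
def invList : Nat := 0x3dc5ebf3380000007d40073bb801e2000027556000023d7200006f75e000062f3200003540057a9803a20000001d47aad728000000000000000000000000003bc6e7f5380000000000000000000000ee800006b0053df2005a80166005b80162007e800006f0052fb200ca8032e00c9803220000001f46aed5280000000000000000000000007cc00757b802e200f5800005d0033ef2000000000000000000005727800005f238000077800007d0072eb2000035c0055e9802a200d56e80000cd6280000000000000000000000004ae3a000043e7200998026a009b80262008f4b800009f4380000000000000000000000004be7a000042e32008b8022a008980222009d4a800008d4280000000000000000000000006ef3e00006375200bd800005f00337d200af800007b00735d2000027d7600002355200000000000000000000ab35bac56000000000b97c9e4720000000000000000000000000000058c006772803c200d18034e00d280342000059c0063f2801c2005380146005280142007359bcc66000000000000000000000000000f1589c46200000000000000000000000000000002b87c76730000000002f85cf63300000ce6f00000d663000005e27000005623000007a7d2e874000000000ea352a854000000000000000000000000000000000000000000000000000000000000000000000000000000000000000000000000000000000000000000000000000000000000000000000000000000000000000000000000000000000000000000000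

end Cfsg.Agent.HeUniq.Model
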