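import Cfsg.Agent.Lib.HeUniq.Bit.Five
import Cfsg.Agent.Lib.HeUniq.Model.Tables
import Mathlib.LinearAlgebra.Matrix.ToLinearEquiv

/-! The centraliser of a transvection in the five-dimensional matrices over two elements, as bit codes. -/

set_option autoImplicit false
set_option maxRecDepth 100000

namespace Cfsg.Agent.HeUniq.Model

open Cfsg.Agent.HeUniq.Bit

/-- `f i` for all `i < n` -/
def allB (f : ℕ → Bool) (n : ℕ) : Bool := Nat.rec true (fun i r => Bool.rec false r (f i)) n

theorem allB_spec {f : ℕ → Bool} : ∀ {n : ℕ}, allB f n = true → ∀ i < n, f i = true := by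
  intro n
  induction n with
  | zero => intro _ i hi; omega
  | succ n ih =>
    intro h i hi
    change Bool.rec false (allB f n) (f n) = true at h
    cases hf : f n with
    | false => rw [hf] at h; exact Bool.noConfusion h
    | true =>
      rw [hf] at h
      rcases Nat.lt_succ_iff_lt_or_eq.1 hi with h1 | h1
      exacts [ih h i h1, h1 ▸ hf]

/-- a chunk of a check -/
theorem allB_chunk {f : ℕ → Bool} {lo k : ℕ} (h : allB (fun i => f (lo + i)) k = true) {i : ℕ} (h1 : lo ≤ i)
    (h2 : i < lo + k) : f i = true := by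
  have := allB_spec h (i - lo) (by omega)
  rwa [Nat.add_sub_cancel' h1] at this

/-- the product -/
def mC (a b : ℕ) : ℕ := mul5 a b

theorem mC_eq (a b : ℕ) : mC a b = bmul 5 a b := mul5_eq a b

/-- the identity code -/
def oneC : ℕ := 17043521

/-- the code of the transvection -/
def zC : ℕ := 17043537

/-- the `k`-th row of a block code -/
def blockRow (M u p c : ℕ) : ℕ → ℕ
  | 0 => 1 + 2 * p + 16 * c
  | 1 => 2 * (M % 8) + 16 * (u % 2)
  | 2 => 2 * (M / 8 % 8) + 16 * (u / 2 % 2)
  | 3 => 2 * (M / 64 % 8) + 16 * (u / 4 % 2)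
  | _ => 16

/-- a code from its blocks -/
def mkC (M u p c : ℕ) : ℕ :=
  blockRow M u p c 0 + 32 * blockRow M u p c 1 + 1024 * blockRow M u p c 2 + 32768 * blockRow M u p c 3 +
    1048576 * blockRow M u p c 4

/-- the `l`-th invertible matrix -/
def matAt (l : ℕ) : ℕ := Nat.mod (Nat.shiftRight matList (Nat.mul 9 l)) 512

/-- the inverse of a matrix -/
def invAt (M : ℕ) : ℕ := Nat.mod (Nat.shiftRight invList (Nat.mul 9 M)) 512

/-- the elements -/
def cd (i : ℕ) : ℕ := mkC (matAt (i / 128)) (i % 8) (i / 8 % 8) (i / 64 % 2)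

/-- the middle block of a code -/
def fM (a : ℕ) : ℕ := row 5 a 1 / 2 % 8 + 8 * (row 5 a 2 / 2 % 8) + 64 * (row 5 a 3 / 2 % 8)

/-- the column block of a code -/
def fU (a : ℕ) : ℕ := row 5 a 1 / 16 + 2 * (row 5 a 2 / 16) + 4 * (row 5 a 3 / 16)

/-- the row block of a code -/
def fP (a : ℕ) : ℕ := row 5 a 0 / 2 % 8

/-- the corner of a code -/
def fC (a : ℕ) : ℕ := row 5 a 0 / 16

/-- the parity of a three bit number -/
def par3 (x : ℕ) : ℕ := (x % 2 + x / 2 % 2 + x / 4 % 2) % 2

/-- a matrix times a column -/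
def mvec (M u : ℕ) : ℕ :=
  par3 (Nat.land (M % 8) u) + 2 * par3 (Nat.land (M / 8 % 8) u) + 4 * par3 (Nat.land (M / 64 % 8) u)

/-- a row times a matrix -/
def vecm (p M : ℕ) : ℕ :=
  Nat.xor (Nat.xor (bif p.testBit 0 then M % 8 else 0) (bif p.testBit 1 then M / 8 % 8 else 0))
    (bif p.testBit 2 then M / 64 % 8 else 0)

/-- the inverse of a code -/
def invC (a : ℕ) : ℕ :=
  mkC (invAt (fM a)) (mvec (invAt (fM a)) (fU a)) (vecm (fP a) (invAt (fM a)))
    ((fC a + par3 (Nat.land (vecm (fP a) (invAt (fM a))) (fU a))) % 2)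

/-- the outer automorphism -/
def theta (a : ℕ) : ℕ := rev5 (invC a)

/-- the checks on an element -/
def elemOK (i : ℕ) : Bool :=
  Nat.blt (cd i) (2 ^ 25) && Nat.beq (mC (cd i) (invC (cd i))) oneC && Nat.beq (mC (cd i) zC) (mC zC (cd i)) &&
  Nat.beq (mC (theta (cd i)) zC) (mC zC (theta (cd i))) &&
  Nat.beq (mC (theta (cd i)) (invC (theta (cd i)))) oneC && Nat.beq (theta (theta (cd i))) (cd i)

/-- a singular block gives a singular code -/
def singOK (M : ℕ) : Bool :=
  allB (fun q => [2, 4, 6, 8, 10, 12, 14, 18, 20, 22, 24, 26, 28, 30].any fun k =>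
    Nat.beq (vm5 k (mkC M (q % 8) (q / 8 % 8) (q / 64 % 2))) 0) 128

/-- the place of a matrix -/
def matFound (M : ℕ) : Bool := (List.range 168).any fun l => Nat.beq (matAt l) M

/-- every block is listed or singular -/
def blockOK (M : ℕ) : Bool := matFound M || singOK M

end Cfsg.Agent.HeUniq.Model
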