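import Cfsg.Agent.Lib.HeUniq.Model.Code

/-! The checks on the elements of the centraliser, evaluated. -/

set_option autoImplicit false
set_option maxRecDepth 100000
set_option Elab.async false

namespace Cfsg.Agent.HeUniq.Model

theorem elems0_ok : allB (fun i => elemOK (0 + i)) 4096 = true := by decide +kernel

theorem elems1_ok : allB (fun i => elemOK (4096 + i)) 4096 = true := by decide +kernel

theorem elems2_ok : allB (fun i => elemOK (8192 + i)) 4096 = true := by decide +kernel

theorem elems3_ok : allB (fun i => elemOK (12288 + i)) 4096 = true := by decide +kernel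

theorem elems4_ok : allB (fun i => elemOK (16384 + i)) 4096 = true := by decide +kernel

theorem elems5_ok : allB (fun i => elemOK (20480 + i)) 1024 = true := by decide +kernel

theorem elem_ok {i : ℕ} (hi : i < 21504) : elemOK i = true := by
  rcases Nat.lt_or_ge i 4096 with h | h
  · exact allB_chunk elems0_ok (Nat.zero_le _) (by omega)
  rcases Nat.lt_or_ge i 8192 with h' | h'
  · exact allB_chunk elems1_ok h (by omega)
  rcases Nat.lt_or_ge i 12288 with h2 | h2
  · exact allB_chunk elems2_ok h' (by omega)
  rcases Nat.lt_or_ge i 16384 with h3 | h3
  · exact allB_chunk elems3_ok h2 (by omega)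
  rcases Nat.lt_or_ge i 20480 with h4 | h4
  · exact allB_chunk elems4_ok h3 (by omega)
  exact allB_chunk elems5_ok h4 (by omega)

theorem blocks_ok : allB blockOK 512 = true := by decide +kernel

theorem one_eq : oneC = Bit.bone 5 := by decide +kernel

end Cfsg.Agent.HeUniq.Model
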