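import Cfsg.Agent.Lib.HeUniq.Model.Chk

/-! The centre of the centraliser, evaluated. -/

set_option autoImplicit false
set_option maxRecDepth 100000
set_option Elab.async false

namespace Cfsg.Agent.HeUniq.Model

/-- an element commuting with two chosen ones is trivial or the transvection -/
def centOK (i : ℕ) : Bool :=
  let a := cd i
  !(Nat.beq (mC a (cd 9856)) (mC (cd 9856) a) && Nat.beq (mC a (cd 1024)) (mC (cd 1024) a)) ||
    Nat.beq a oneC || Nat.beq a zC

theorem cent0_ok : allB centOK 10752 = true := by decide +kernel

theorem cent1_ok : allB (fun i => centOK (10752 + i)) 10752 = true := by decide +kernel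

theorem cd_one : cd 9728 = oneC := by decide +kernel

theorem cd_z : cd 9792 = zC := by decide +kernel

end Cfsg.Agent.HeUniq.Model
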